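import Groth.Agent.StrictRegLib.Point
import Groth.Agent.RegImmKindLib.Mor
import Groth.Agent.AffContLib.Semi
import Groth.Agent.AlgSpLib.ReducedStalk
import Groth.Agent.BlowUpLib.Strict

/-!
# Strict transforms of regularly immersed sub-schemes meeting the centre regularly
-/

set_option autoImplicit false
set_option maxHeartbeats 1000000
set_option backward.isDefEq.respectTransparency false
set_option backward.isDefEq.respectTransparency.types false
set_option linter.style.haveILetI false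

universe u

open AlgebraicGeometry CategoryTheory CategoryTheory.Limits RingTheory.Sequence IsLocalRing

noncomputable section

namespace StrictRegLib

variable {X : Scheme.{u}}

theorem specIdeal_inj {A : Type u} [CommRing A] {I J : Ideal A}
    (h : BlowUpLib.specIdeal (A := A) I = BlowUpLib.specIdeal (A := A) J) : I = J := by
  have e := congrArg (fun K : (Spec (CommRingCat.of A)).IdealSheafData => K.ideal ⟨⊤, isAffineOpen_top _⟩) h
  simp only [BlowUpLib.specIdeal_top] at e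
  have hb := ConcreteCategory.bijective_of_isIso (Scheme.ΓSpecIso (CommRingCat.of A)).inv
  have := congrArg (Ideal.comap (Scheme.ΓSpecIso (CommRingCat.of A)).inv.hom) e
  rwa [Ideal.comap_map_of_bijective _ hb, Ideal.comap_map_of_bijective _ hb] at this

theorem comap_fromSpecStalk' (𝓘 : X.IdealSheafData) (U : X.affineOpens) {x : X} (hx : x ∈ U.1) :
    𝓘.comap (X.fromSpecStalk x) = BlowUpLib.specIdeal (A := X.presheaf.stalk x)
      ((𝓘.ideal U).map (X.presheaf.germ U.1 x hx).hom) := by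
  rw [← U.2.fromSpecStalk_eq_fromSpecStalk hx, IsAffineOpen.fromSpecStalk, Scheme.IdealSheafData.comap_comp,
    BlowUpLib.comap_fromSpec]
  exact BlowUpLib.comap_specIdeal (X.presheaf.germ U.1 x hx).hom _

theorem regular_stalk [IsLocallyNoetherian X] (𝓘 : X.IdealSheafData) {k : RegImm.Kind}
    (h : RegImm.IsRegularIdeal k 𝓘) {x : X} (hx : x ∈ 𝓘.support) (I : Ideal (X.presheaf.stalk x))
    (hI : 𝓘.comap (X.fromSpecStalk x) = BlowUpLib.specIdeal (A := X.presheaf.stalk x) I) :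
    ∃ rs, IsRegular (X.presheaf.stalk x) rs ∧ I = Ideal.ofList rs := by
  obtain ⟨U, hxU, rs, hrs, hU⟩ := h x hx
  haveI : IsNoetherianRing Γ(X, U.1) := IsLocallyNoetherian.component_noetherian U
  letI := X.presheaf.algebra_section_stalk (⟨x, hxU⟩ : U.1)
  haveI : IsLocalization.AtPrime (X.presheaf.stalk x) (U.2.primeIdealOf ⟨x, hxU⟩).asIdeal :=
    U.2.isLocalization_stalk ⟨x, hxU⟩
  refine ⟨rs.map (algebraMap Γ(X, U.1) (X.presheaf.stalk x)),
    RegImmKindLib.isRegular_of_seq k (U.2.primeIdealOf ⟨x, hxU⟩).asIdeal rs (fun r hr => ?_) hrs _, ?_⟩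
  · have hz : x ∈ X.zeroLocus (U := U.1) (𝓘.ideal U : Set Γ(X, U.1)) :=
      ((Set.ext_iff.1 (𝓘.coe_support_inter U) x).1 ⟨hx, hxU⟩).1
    rw [Scheme.mem_zeroLocus_iff] at hz
    by_contra hr'
    refine hz r (hU.ge (Ideal.subset_span hr)) ?_
    rw [show x = U.2.fromSpec (U.2.primeIdealOf ⟨x, hxU⟩) from (U.2.fromSpec_primeIdealOf ⟨x, hxU⟩).symm]
    show U.2.primeIdealOf ⟨x, hxU⟩ ∈ U.2.fromSpec ⁻¹ᵁ X.basicOpen r
    rw [U.2.fromSpec_preimage_basicOpen r]
    exact hr'
  · refine (specIdeal_inj ((comap_fromSpecStalk' 𝓘 U hxU).symm.trans hI)).symm.trans ?_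
    rw [hU, Ideal.map_ofList]
    rfl

theorem ker_stalk_subscheme (𝓘 : X.IdealSheafData) (y : 𝓘.subscheme) :
    𝓘.comap (X.fromSpecStalk (𝓘.subschemeι y)) =
      BlowUpLib.specIdeal (A := X.presheaf.stalk (𝓘.subschemeι y)) (RingHom.ker (𝓘.subschemeι.stalkMap y).hom) := by
  obtain ⟨U, hU, hyU, -⟩ := exists_isAffineOpen_mem_and_subset (U := ⊤) (x := 𝓘.subschemeι y) trivial
  obtain ⟨h1, -⟩ := RegImmKindLib.ker_stalkMap 𝓘.subschemeι hU (hU.preimage 𝓘.subschemeι)
    (𝓘.subschemeι.app_surjective U hU) y hyU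
  rw [comap_fromSpecStalk' 𝓘 ⟨U, hU⟩ hyU, h1]
  congr 2
  exact ((Scheme.Hom.ker_apply 𝓘.subschemeι ⟨U, hU⟩).symm.trans (by rw [Scheme.IdealSheafData.ker_subschemeι])).symm

variable {Z : Scheme.{u}} [IsLocallyNoetherian Z] (𝓘W 𝓘Y : Z.IdealSheafData)

theorem regular_inter (hXW : RegImm.IsRegularIdeal RegImm.Kind.regular (𝓘Y.comap 𝓘W.subschemeι)) (z : Z)
    (hzW : z ∈ 𝓘W.support) (hzY : z ∈ 𝓘Y.support) (I J : Ideal (Z.presheaf.stalk z))
    (hI : 𝓘W.comap (Z.fromSpecStalk z) = BlowUpLib.specIdeal (A := Z.presheaf.stalk z) I)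
    (hJ : 𝓘Y.comap (Z.fromSpecStalk z) = BlowUpLib.specIdeal (A := Z.presheaf.stalk z) J) :
    ∃ rs, IsRegular (Z.presheaf.stalk z ⧸ I) rs ∧ J.map (Ideal.Quotient.mk I) = Ideal.ofList rs := by
  obtain ⟨w, rfl⟩ : z ∈ Set.range 𝓘W.subschemeι := by
    rw [Scheme.IdealSheafData.range_subschemeι]; exact hzW
  haveI : IsLocallyNoetherian 𝓘W.subscheme := LocallyOfFiniteType.isLocallyNoetherian 𝓘W.subschemeι
  obtain rfl : I = RingHom.ker (𝓘W.subschemeι.stalkMap w).hom :=
    specIdeal_inj (hI.symm.trans (ker_stalk_subscheme 𝓘W w))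
  let σ := (𝓘W.subschemeι.stalkMap w).hom
  have hσ : Function.Surjective σ := 𝓘W.subschemeι.stalkMap_surjective w
  have hc : (𝓘Y.comap 𝓘W.subschemeι).comap (𝓘W.subscheme.fromSpecStalk w) =
      BlowUpLib.specIdeal (A := 𝓘W.subscheme.presheaf.stalk w) (J.map σ) := by
    rw [← Scheme.IdealSheafData.comap_comp, ← Scheme.SpecMap_stalkMap_fromSpecStalk,
      Scheme.IdealSheafData.comap_comp, hJ]
    exact BlowUpLib.comap_specIdeal σ J
  have hw : w ∈ (𝓘Y.comap 𝓘W.subschemeι).support := by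
    rw [Scheme.IdealSheafData.support_comap]; exact hzY
  obtain ⟨rs, hrs, hr⟩ := regular_stalk _ hXW hw _ hc
  let e := RingHom.quotientKerEquivOfSurjective hσ
  refine ⟨rs.map e.symm, TransLib.isRegular_of_ringEquiv e.symm hrs, ?_⟩
  rw [show rs.map e.symm = rs.map e.symm.toRingHom from rfl, ← Ideal.map_ofList, ← hr, Ideal.map_map]
  congr 1
  refine RingHom.ext fun a => (e.injective ?_)
  show e (Ideal.Quotient.mk _ a) = e (e.symm (σ a))
  rw [e.apply_symm_apply]
  rfl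

variable {Z' Y' : Scheme.{u}}

theorem strict_point (hW : RegImm.IsRegularIdeal RegImm.Kind.regular 𝓘W)
    (hY : RegImm.IsRegularIdeal RegImm.Kind.regular 𝓘Y)
    (hXY : RegImm.IsRegularIdeal RegImm.Kind.regular (𝓘W.comap 𝓘Y.subschemeι))
    (hXW : RegImm.IsRegularIdeal RegImm.Kind.regular (𝓘Y.comap 𝓘W.subschemeι))
    (b : Z' ⟶ Z) (hb : BlowUp.IsBlowUp b 𝓘W)
    (b' : Y' ⟶ 𝓘Y.subscheme) (hb' : BlowUp.IsBlowUp b' (𝓘W.comap 𝓘Y.subschemeι))
    (k : Y' ⟶ Z') (hk : k ≫ b = b' ≫ 𝓘Y.subschemeι) (y' : Y') : RK (k.stalkMap y').hom := by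
  classical
  haveI : IsLocallyNoetherian 𝓘Y.subscheme := LocallyOfFiniteType.isLocallyNoetherian 𝓘Y.subschemeι
  let ι := 𝓘Y.subschemeι
  let y := b' y'
  let z := ι y
  let R := Z.presheaf.stalk z
  let R' := 𝓘Y.subscheme.presheaf.stalk y
  let π : R →+* R' := (ι.stalkMap y).hom
  have hπ : Function.Surjective π := ι.stalkMap_surjective y
  obtain ⟨U, hU, hzU, -⟩ := exists_isAffineOpen_mem_and_subset (U := ⊤) (x := z) trivial
  let I : Ideal R := (𝓘W.ideal ⟨U, hU⟩).map (Z.presheaf.germ U z hzU).hom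
  have hI : 𝓘W.comap (Z.fromSpecStalk z) = BlowUpLib.specIdeal (A := R) I := comap_fromSpecStalk' 𝓘W ⟨U, hU⟩ hzU
  have hJ : 𝓘Y.comap (Z.fromSpecStalk z) = BlowUpLib.specIdeal (A := R) (RingHom.ker π) :=
    ker_stalk_subscheme 𝓘Y y
  have hI' : (𝓘W.comap ι).comap (𝓘Y.subscheme.fromSpecStalk y) = BlowUpLib.specIdeal (A := R') (I.map π) := by
    rw [← Scheme.IdealSheafData.comap_comp, ← Scheme.SpecMap_stalkMap_fromSpecStalk,
      Scheme.IdealSheafData.comap_comp, hI]
    exact BlowUpLib.comap_specIdeal π I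
  have hzY : z ∈ 𝓘Y.support := by
    have : z ∈ Set.range 𝓘Y.subschemeι := ⟨y, rfl⟩
    rw [Scheme.IdealSheafData.range_subschemeι] at this
    exact this
  obtain ⟨d, bb, e, G, F, g, hdI, hdJ, hd1, hd2, hd3, hcase⟩ : ∃ (d bb e : ℕ) (G : Fin d → R) (F : Fin bb → R)
      (g : Fin e → R), I = Ideal.span (Set.range (Fin.append G F)) ∧
      RingHom.ker π = Ideal.span (Set.range (Fin.append G g)) ∧
      IsWeaklyRegular R (List.ofFn (Fin.append G F)) ∧ IsWeaklyRegular R' (List.ofFn fun i => π (F i)) ∧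
      IsWeaklyRegular (R ⧸ I) (List.ofFn fun i => Ideal.Quotient.mk I (g i)) ∧
      (I ≤ maximalIdeal R ∨ (d = 0 ∧ I = ⊤ ∧ IsWeaklyRegular R (List.ofFn g))) := by
    by_cases hm : I ≤ maximalIdeal R
    · have hzW : z ∈ 𝓘W.support := by
        by_contra hz
        have hnot : z ∉ Z.zeroLocus (U := U) (𝓘W.ideal ⟨U, hU⟩ : Set Γ(Z, U)) := fun h =>
          hz ((Set.ext_iff.1 (𝓘W.coe_support_inter ⟨U, hU⟩) z).2 ⟨h, hzU⟩).1
        rw [Scheme.mem_zeroLocus_iff] at hnot
        push Not at hnot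
        obtain ⟨f, hf, hfz⟩ := hnot
        exact (IsLocalRing.mem_maximalIdeal _).1 (hm (Ideal.mem_map_of_mem _ hf))
          ((Z.mem_basicOpen f z hzU).1 hfz)
      obtain ⟨d, bb, e, G, F, g, h⟩ := exists_data π hπ I hm (regular_stalk 𝓘W hW hzW I hI)
        (regular_stalk _ hXY (show y ∈ (𝓘W.comap ι).support by
          rw [Scheme.IdealSheafData.support_comap]; exact hzW) _ hI')
        (regular_inter 𝓘W 𝓘Y hXW z hzW hzY I _ hI hJ)
      exact ⟨d, bb, e, G, F, g, h.1, h.2.1, h.2.2.1, h.2.2.2.1, h.2.2.2.2, Or.inl hm⟩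
    · have htop : I = ⊤ := by
        by_contra h
        exact hm (IsLocalRing.le_maximalIdeal h)
      obtain ⟨rs, hrs, hrJ⟩ := regular_stalk 𝓘Y hY hzY _ hJ
      haveI : Subsingleton (R ⧸ I) := Ideal.Quotient.subsingleton_iff.2 htop
      have h1 : ∀ (A : Type u) [CommRing A], IsWeaklyRegular A [(1 : A)] := fun A _ =>
        (isWeaklyRegular_singleton_iff A 1).2 (IsSMulRegular.one A)
      refine ⟨0, 1, rs.length, Fin.elim0, fun _ => 1, rs.get, ?_, ?_, ?_, ?_, ?_, Or.inr ⟨rfl, htop, ?_⟩⟩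
      · rw [htop]
        refine ((Ideal.eq_top_iff_one _).2 ?_).symm
        exact Ideal.subset_span ⟨Fin.natAdd 0 (0 : Fin 1), by simp⟩
      · rw [hrJ, ← DefoRegLib.ofList_ofFn, List.ofFn_fin_append, List.ofFn_zero, List.nil_append, List.ofFn_get]
      · rw [List.ofFn_fin_append, List.ofFn_zero, List.nil_append]
        simpa using h1 R
      · simpa using h1 R'
      · exact ⟨fun i hi => fun a b _ => Subsingleton.elim a b⟩
      · rw [List.ofFn_get]; exact hrs.toIsWeaklyRegular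
  -- base change to the local rings
  haveI := AlgSpLib.flat_fromSpecStalk z
  haveI := AlgSpLib.flat_fromSpecStalk y
  let P := pullback (Z.fromSpecStalk z) b
  let P' := pullback (𝓘Y.subscheme.fromSpecStalk y) b'
  have hp : BlowUp.IsBlowUp (pullback.fst (Z.fromSpecStalk z) b) (BlowUpLib.specIdeal (A := R) I) :=
    hI ▸ BlowUpLib.isBlowUp_of_isPullback (IsPullback.of_hasPullback (Z.fromSpecStalk z) b).flip hb
  have hp' : BlowUp.IsBlowUp (pullback.fst (𝓘Y.subscheme.fromSpecStalk y) b')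
      (BlowUpLib.specIdeal (A := R') (I.map π)) :=
    hI' ▸ BlowUpLib.isBlowUp_of_isPullback (IsPullback.of_hasPullback (𝓘Y.subscheme.fromSpecStalk y) b').flip hb'
  let j : P' ⟶ P := pullback.lift (pullback.fst _ _ ≫ Spec.map (ι.stalkMap y)) (pullback.snd _ _ ≫ k) (by
    rw [Category.assoc, Scheme.SpecMap_stalkMap_fromSpecStalk, ← Category.assoc, pullback.condition,
      Category.assoc, Category.assoc, hk])
  obtain ⟨x, hx1, hx2⟩ := Scheme.Pullback.exists_preimage_pullback (f := 𝓘Y.subscheme.fromSpecStalk y) (g := b')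
    (closedPoint R') y' Scheme.fromSpecStalk_closedPoint
  have key : RK (j.stalkMap x).hom :=
    chart_point G F g π hπ I hdI hdJ hd1 hd2 hd3 hcase (pullback.fst _ _) hp (pullback.fst _ _) hp' j
      (pullback.lift_fst _ _ _) x hx1
  haveI : IsIso ((pullback.snd (Z.fromSpecStalk z) b).stalkMap (j x)) :=
    AffContLib.isIso_stalkMap_of_flat_preimmersion _ _
  haveI : IsIso ((pullback.snd (𝓘Y.subscheme.fromSpecStalk y) b').stalkMap x) :=
    AffContLib.isIso_stalkMap_of_flat_preimmersion _ _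
  have := RK.stalk_square j k (pullback.snd _ _) (pullback.snd _ _) (pullback.lift_snd _ _ _) x key
  exact hx2 ▸ this

end StrictRegLib
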