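import Groth.Agent.DefoRegLib.Prefix
import Groth.Agent.DefoRegLib.Main
import Groth.Agent.GrModLib.StdField

/-!
# The chart of a strict transform

`G ∪ H ∪ {t}` generates the centre and `G ∪ g` the sub-scheme.
-/

set_option autoImplicit false
set_option maxHeartbeats 1000000
set_option backward.isDefEq.respectTransparency false
set_option backward.isDefEq.respectTransparency.types false
set_option linter.style.haveILetI false

universe u

open KoszDetLib MvPolynomial RingTheory.Sequence

namespace StrictRegLib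

open DefoRegLib

variable {d n e : ℕ} {R : Type u} [CommRing R]

/-- `t`, then `g`, then the fractions `G / t` form a weakly regular sequence of the chart. -/
theorem chart_seq {t : R} {G : Fin d → R} {H : Fin n → R} (hg : Good t G H) (g : Fin e → R) (I : Ideal R)
    (hI : I = Ideal.span (Set.range (Fin.cons t (Fin.append G H) : Fin (d + n + 1) → R)))
    (v : Fin (d + n) → BlowUp.affineAlgebra R I t)
    (hv : ∀ m, v m * algebraMap R _ t = algebraMap R _ (Fin.append G H m))
    (hgr : IsWeaklyRegular (R ⧸ I) (List.ofFn fun i => Ideal.Quotient.mk I (g i))) :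
    IsWeaklyRegular (BlowUp.affineAlgebra R I t)
      (algebraMap R (BlowUp.affineAlgebra R I t) t ::
        ((List.ofFn fun i => algebraMap R (BlowUp.affineAlgebra R I t) (g i)) ++
          List.ofFn fun i => v (Fin.castAdd n i))) := by
  classical
  obtain ⟨hsurj, hker⟩ := presentation₂ hg I hI v hv
  have htI : t ∈ I := hI ▸ Ideal.subset_span ⟨0, Fin.cons_zero _ _⟩
  have hfI : ∀ m, Fin.append G H m ∈ I := fun m => hI ▸ Ideal.subset_span ⟨m.succ, Fin.cons_succ _ _ _⟩
  have hch := BlowUpLib.isChart_affineAlgebra htI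
  let C' := BlowUp.affineAlgebra R I t
  let K := R ⧸ I
  let σ : MvPolynomial (Fin (d + n)) R →+* MvPolynomial (Fin (d + n)) K := MvPolynomial.map (Ideal.Quotient.mk I)
  have hσ : RingHom.ker (aeval (R := R) v).toRingHom ≤ RingHom.ker σ := by
    rw [hker, Ideal.span_le]
    rintro _ ⟨m, rfl⟩
    show σ _ = 0
    simp only [σ, map_sub, map_mul, MvPolynomial.map_C, MvPolynomial.map_X]
    rw [Ideal.Quotient.eq_zero_iff_mem.2 htI, Ideal.Quotient.eq_zero_iff_mem.2 (hfI m)]
    simp
  let Φ : C' →+* MvPolynomial (Fin (d + n)) K := (aeval (R := R) v).toRingHom.liftOfSurjective hsurj ⟨σ, hσ⟩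
  have hΦ : ∀ p, Φ (aeval (R := R) v p) = σ p := fun p =>
    RingHom.liftOfRightInverse_comp_apply _ _ _ _ p
  have hΦC : ∀ r, Φ (algebraMap R C' r) = C (Ideal.Quotient.mk I r) := fun r => by
    have := hΦ (C r)
    rw [aeval_C] at this
    exact this.trans (MvPolynomial.map_C _ _)
  have hΦX : ∀ m, Φ (v m) = X m := fun m => by
    have := hΦ (X m)
    rw [aeval_X] at this
    exact this.trans (MvPolynomial.map_X _ _)
  have hΦs : Function.Surjective Φ := fun y => by
    obtain ⟨p, rfl⟩ := MvPolynomial.map_surjective (Ideal.Quotient.mk I) Ideal.Quotient.mk_surjective y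
    exact ⟨_, hΦ p⟩
  have hΦk : RingHom.ker Φ = Ideal.span {algebraMap R C' t} := by
    refine le_antisymm (fun x hx => ?_) ((Ideal.span_singleton_le_iff_mem _).2 ?_)
    · obtain ⟨p, rfl⟩ := hsurj x
      have h1 : p ∈ RingHom.ker σ := (hΦ p).symm.trans hx
      rw [MvPolynomial.ker_map, Ideal.mk_ker] at h1
      have h2 := Ideal.mem_map_of_mem (aeval (R := R) v).toRingHom h1
      rw [Ideal.map_map, show (aeval (R := R) v).toRingHom.comp C = algebraMap R C' from
        RingHom.ext fun r => aeval_C v r, hch.span] at h2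
      exact h2
    · rw [RingHom.mem_ker, hΦC, Ideal.Quotient.eq_zero_iff_mem.2 htI, map_zero]
  refine GrModLib.isWeaklyRegular_cons_of_surjective Φ hΦs _ hΦk ?_ _ ?_
  · exact isSMulRegular_iff_right_eq_zero_of_smul.2 fun x hx =>
      mem_nonZeroDivisors_iff_right.mp hch.nzd x (by rw [mul_comm]; exact hx)
  rw [List.map_append, List.map_ofFn, List.map_ofFn,
    show ((Φ : C' → _) ∘ fun i => algebraMap R C' (g i)) = fun i => C (Ideal.Quotient.mk I (g i)) from
      funext fun i => hΦC _,
    show ((Φ : C' → _) ∘ fun i => v (Fin.castAdd n i)) = fun i => X (Fin.castAdd n i) from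
      funext fun i => hΦX _]
  let g' : Fin e → K := fun i => Ideal.Quotient.mk I (g i)
  have h1 := IsWeaklyRegular.of_flat (S := MvPolynomial (Fin (d + n)) K) hgr
  rw [List.map_ofFn] at h1
  refine (isWeaklyRegular_append_iff _ _ _).2 ⟨h1, ?_⟩
  let Q : Ideal K := Ideal.span (Set.range g')
  let P := MvPolynomial (Fin (d + n)) K
  let ρ : P →+* MvPolynomial (Fin (d + n)) (K ⧸ Q) := MvPolynomial.map (Ideal.Quotient.mk Q)
  let J : Ideal P := Ideal.ofList (List.ofFn fun i : Fin e => (C (g' i) : P))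
  have hJ : J = RingHom.ker ρ := by
    rw [show J = _ from ofList_ofFn _, MvPolynomial.ker_map, Ideal.mk_ker, Ideal.map_span, ← Set.range_comp]
    rfl
  let e₁ : (P ⧸ (J • ⊤ : Submodule P P)) ≃ₗ[P] P ⧸ J :=
    Submodule.quotEquivOfEq _ _ (by rw [smul_eq_mul, Ideal.mul_top])
  show IsWeaklyRegular (P ⧸ (J • ⊤ : Submodule P P)) _
  rw [e₁.isWeaklyRegular_congr, ← isWeaklyRegular_map_algebraMap_iff (P ⧸ J), List.map_ofFn]
  let q :=
    (Ideal.quotEquivOfEq hJ).trans (RingHom.quotientKerEquivOfSurjective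
      (MvPolynomial.map_surjective _ Ideal.Quotient.mk_surjective))
  rw [congr_ringEquiv (S := MvPolynomial (Fin (d + n)) (K ⧸ Q)) q, List.map_ofFn]
  have hq : (⇑q ∘ ⇑(algebraMap P (P ⧸ J)) ∘ fun i : Fin d => X (Fin.castAdd n i)) =
      fun i : Fin d => X (Fin.castAdd n i) := funext fun i => MvPolynomial.map_X _ _
  rw [hq]
  have hX := GrModLib.isWeaklyRegular_X (K ⧸ Q) (d + n)
  rw [← Fin.append_castAdd_natAdd (f := (X : Fin (d + n) → MvPolynomial (Fin (d + n)) (K ⧸ Q))),
    List.ofFn_fin_append, isWeaklyRegular_append_iff] at hX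
  exact hX.1

/-- The map to the chart of the strict transform. -/
theorem chart_ker {t : R} {G : Fin d → R} {H : Fin n → R} (hg : Good t G H) (g : Fin e → R) (I : Ideal R)
    (hI : I = Ideal.span (Set.range (Fin.cons t (Fin.append G H) : Fin (d + n + 1) → R)))
    (v : Fin (d + n) → BlowUp.affineAlgebra R I t)
    (hv : ∀ m, v m * algebraMap R _ t = algebraMap R _ (Fin.append G H m))
    {R' : Type u} [CommRing R'] (π : R →+* R') (hπ : Function.Surjective π)
    (hker : RingHom.ker π = Ideal.span (Set.range (Fin.append G g)))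
    (hg' : Good (π t) (Fin.elim0 : Fin 0 → R') (π ∘ H))
    (I' : Ideal R') (hI' : I' = Ideal.span (Set.range
      (Fin.cons (π t) (Fin.append (Fin.elim0 : Fin 0 → R') (π ∘ H)) : Fin (0 + n + 1) → R')))
    (ψ : BlowUp.affineAlgebra R I t →+* BlowUp.affineAlgebra R' I' (π t))
    (hψ : ∀ r, ψ (algebraMap R _ r) = algebraMap R' _ (π r)) :
    Function.Surjective ψ ∧ RingHom.ker ψ = Ideal.ofList
      ((List.ofFn fun i => algebraMap R (BlowUp.affineAlgebra R I t) (g i)) ++
        List.ofFn fun i => v (Fin.castAdd n i)) := by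
  classical
  obtain ⟨hsurj, -⟩ := presentation₂ hg I hI v hv
  let C' := BlowUp.affineAlgebra R I t
  let C'' := BlowUp.affineAlgebra R' I' (π t)
  let K : Ideal C' := Ideal.ofList
      ((List.ofFn fun i => algebraMap R C' (g i)) ++ List.ofFn fun i => v (Fin.castAdd n i))
  have hK : K = Ideal.span (Set.range fun i => algebraMap R C' (g i)) ⊔
      Ideal.span (Set.range fun i => v (Fin.castAdd n i)) := by
    simp only [K, Ideal.ofList_append, ofList_ofFn]
  have hnz : algebraMap R' C'' (π t) ∈ nonZeroDivisors C'' := BlowProjLib.nzd_affineAlgebra I' (π t)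
  have hψv : ∀ m, ψ (v m) * algebraMap R' C'' (π t) = algebraMap R' C'' (π (Fin.append G H m)) := fun m => by
    rw [← hψ, ← map_mul, hv, hψ]
  have hπG : ∀ i, π (G i) = 0 := fun i =>
    RingHom.mem_ker.1 (hker.ge (Ideal.subset_span ⟨Fin.castAdd e i, Fin.append_left _ _ _⟩))
  have hπg : ∀ i, π (g i) = 0 := fun i =>
    RingHom.mem_ker.1 (hker.ge (Ideal.subset_span ⟨Fin.natAdd d i, Fin.append_right _ _ _⟩))
  have hψf : ∀ i, ψ (v (Fin.castAdd n i)) = 0 := fun i => by
    refine mem_nonZeroDivisors_iff_right.mp hnz _ ((hψv _).trans ?_)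
    rw [Fin.append_left, hπG, map_zero]
  let w : Fin (0 + n) → C'' := fun m => ψ (v (Fin.natAdd d (Fin.cast (Nat.zero_add n) m)))
  have hw : ∀ m, w m * algebraMap R' C'' (π t) =
      algebraMap R' C'' (Fin.append (Fin.elim0 : Fin 0 → R') (π ∘ H) m) := fun m => by
    refine (hψv _).trans ?_
    congr 1
    rw [Fin.append_right]
    induction m using Fin.addCases with
    | left i => exact i.elim0
    | right i =>
      rw [Fin.append_right]
      exact congrArg (π ∘ H) (Fin.ext (by simp))
  obtain ⟨hsurj', hker'⟩ := presentation₂ hg' I' hI' w hw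
  have hs : Function.Surjective ψ := by
    intro y
    obtain ⟨p, rfl⟩ := hsurj' y
    induction p using MvPolynomial.induction_on with
    | C r =>
      obtain ⟨r, rfl⟩ := hπ r
      exact ⟨algebraMap R C' r, by rw [hψ, aeval_C]⟩
    | add p q hp hq =>
      obtain ⟨x, hx⟩ := hp
      obtain ⟨y, hy⟩ := hq
      exact ⟨x + y, by rw [map_add, map_add, hx, hy]⟩
    | mul_X p m hp =>
      obtain ⟨x, hx⟩ := hp
      exact ⟨x * v (Fin.natAdd d (Fin.cast (Nat.zero_add n) m)), by rw [map_mul ψ, hx, map_mul, aeval_X]⟩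
  refine ⟨hs, le_antisymm (fun x hx => ?_) ?_⟩
  swap
  · show K ≤ _
    rw [hK, sup_le_iff, Ideal.span_le, Ideal.span_le]
    refine ⟨?_, ?_⟩
    · rintro _ ⟨i, rfl⟩
      show ψ _ = 0
      rw [hψ, hπg, map_zero]
    · rintro _ ⟨i, rfl⟩
      exact hψf i
  let q := Ideal.Quotient.mk K
  have hqv : ∀ i, q (v (Fin.castAdd n i)) = 0 := fun i =>
    Ideal.Quotient.eq_zero_iff_mem.2 (hK.ge (Ideal.mem_sup_right (Ideal.subset_span ⟨i, rfl⟩)))
  have hqg : ∀ i, q (algebraMap R C' (g i)) = 0 := fun i =>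
    Ideal.Quotient.eq_zero_iff_mem.2 (hK.ge (Ideal.mem_sup_left (Ideal.subset_span ⟨i, rfl⟩)))
  have hqker : RingHom.ker π ≤ RingHom.ker (q.comp (algebraMap R C')) := by
    rw [hker, Ideal.span_le]
    rintro _ ⟨i, rfl⟩
    show q (algebraMap R C' (Fin.append G g i)) = 0
    induction i using Fin.addCases with
    | left i =>
      rw [Fin.append_left]
      have e := hv (Fin.castAdd n i)
      rw [Fin.append_left] at e
      rw [← e, map_mul, hqv, zero_mul]
    | right i => rw [Fin.append_right, hqg]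
  let ρq : R' →+* C' ⧸ K := π.liftOfSurjective hπ ⟨q.comp (algebraMap R C'), hqker⟩
  have hρq : ∀ r, ρq (π r) = q (algebraMap R C' r) := fun r => RingHom.liftOfRightInverse_comp_apply _ _ _ _ r
  let θ' : MvPolynomial (Fin (0 + n)) R' →+* C' ⧸ K :=
    eval₂Hom ρq fun m => q (v (Fin.natAdd d (Fin.cast (Nat.zero_add n) m)))
  have hθC : ∀ r, θ' (C r) = ρq r := fun r => eval₂Hom_C _ _ _
  have hθX : ∀ m, θ' (X m) = q (v (Fin.natAdd d (Fin.cast (Nat.zero_add n) m))) := fun m => eval₂Hom_X' _ _ _
  have hθ : RingHom.ker (aeval (R := R') w).toRingHom ≤ RingHom.ker θ' := by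
    rw [hker', Ideal.span_le]
    rintro _ ⟨m, rfl⟩
    show θ' _ = 0
    rw [map_sub, map_mul, hθC, hθX, hθC]
    have e : Fin.append (Fin.elim0 : Fin 0 → R') (π ∘ H) m =
        π (H (Fin.cast (Nat.zero_add n) m)) := by
      induction m using Fin.addCases with
      | left i => exact i.elim0
      | right i => rw [Fin.append_right]; exact congrArg (π ∘ H) (Fin.ext (by simp))
    rw [e, hρq, hρq, ← map_mul, sub_eq_zero, mul_comm, hv, Fin.append_right]
  let χ : C'' →+* C' ⧸ K := (aeval (R := R') w).toRingHom.liftOfSurjective hsurj' ⟨θ', hθ⟩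
  have hχ : ∀ p, χ (aeval (R := R') w p) = θ' p := fun p => RingHom.liftOfRightInverse_comp_apply _ _ _ _ p
  have hid : (χ.comp ψ).comp (aeval (R := R) v).toRingHom = q.comp (aeval (R := R) v).toRingHom := by
    refine MvPolynomial.ringHom_ext (fun r => ?_) fun m => ?_
    · show χ (ψ (aeval (R := R) v (C r))) = q (aeval (R := R) v (C r))
      rw [aeval_C, hψ, ← aeval_C (R := R') w, hχ, hθC, hρq]
    · show χ (ψ (aeval (R := R) v (X m))) = q (aeval (R := R) v (X m))
      rw [aeval_X]
      induction m using Fin.addCases with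
      | left i => rw [hψf, map_zero, hqv]
      | right i =>
        have e1 : ψ (v (Fin.natAdd d i)) = aeval (R := R') w (X (Fin.cast (Nat.zero_add n).symm i)) := by
          rw [aeval_X]
          exact congrArg (fun j => ψ (v (Fin.natAdd d j))) (Fin.ext (by simp))
        rw [e1, hχ, hθX]
        exact congrArg (fun j => q (v (Fin.natAdd d j))) (Fin.ext (by simp))
  obtain ⟨p, rfl⟩ := hsurj x
  have := RingHom.congr_fun hid p
  show (aeval (R := R) v) p ∈ K
  rw [← Ideal.Quotient.eq_zero_iff_mem]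
  refine this.symm.trans ?_
  show χ (ψ (aeval (R := R) v p)) = 0
  rw [RingHom.mem_ker.1 hx, map_zero]

end StrictRegLib
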