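import Groth.Agent.DefoRegLib.Main
import Groth.Agent.DefoRegLib.Comp
import Groth.Agent.RegImmKindLib.Ring
import Groth.Agent.RegImmKindLib.KindFlat
import Groth.Agent.RegImmKindLib.H1Descent

/-!
# Generators adapted to two regular ideals meeting regularly
-/

set_option autoImplicit false
set_option maxHeartbeats 1000000
set_option linter.style.haveILetI false

universe u

open RingTheory.Sequence IsLocalRing KoszDetLib

namespace StrictRegLib

variable {R : Type u} [CommRing R] [IsLocalRing R] [IsNoetherianRing R]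

/-- A lift of a trivial relation. -/
theorem exists_lift_triv {R' : Type u} [CommRing R'] (π : R →+* R') (hπ : Function.Surjective π) {b : ℕ}
    (F : Fin b → R) (w : Fin b → R') (hw : w ∈ RegImmKindLib.Triv (fun i => π (F i))) :
    ∃ w₀ ∈ RegImmKindLib.Triv F, ∀ i, π (w₀ i) = w i := by
  induction hw using Submodule.span_induction with
  | mem v hv =>
    obtain ⟨i, j, rfl⟩ := hv
    refine ⟨_, Submodule.subset_span ⟨i, j, rfl⟩, fun k => ?_⟩
    simp only [Pi.sub_apply, map_sub, Pi.single_apply]
    split_ifs <;> simp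
  | zero => exact ⟨0, zero_mem _, fun i => by simp⟩
  | add v w _ _ hv hw =>
    obtain ⟨v₀, hv₀, e₁⟩ := hv
    obtain ⟨w₀, hw₀, e₂⟩ := hw
    exact ⟨v₀ + w₀, add_mem hv₀ hw₀, fun i => by simp [e₁, e₂]⟩
  | smul c v _ hv =>
    obtain ⟨v₀, hv₀, e₁⟩ := hv
    obtain ⟨c, rfl⟩ := hπ c
    exact ⟨c • v₀, Submodule.smul_mem _ _ hv₀, fun i => by simp [e₁]⟩

/-- In a local Noetherian ring a Koszul exact family in the maximal ideal is a regular sequence. -/
theorem weaklyRegular_of_exactK {m : ℕ} (h : Fin m → R) (hh : IsExactK h) (hm : ∀ i, h i ∈ maximalIdeal R) :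
    IsWeaklyRegular R (List.ofFn h) := by
  haveI : IsLocalization.AtPrime R (maximalIdeal R) := IsLocalization.self fun x hx => by
    show IsUnit x
    simpa [IsLocalRing.mem_maximalIdeal] using hx
  have h1 : RegImm.Kind.h1.Seq R (List.ofFn h) := by
    refine RegImmKindLib.isH1Regular_of_isExactK ?_
    refine KRLib.isExactK_cast hh (List.length_ofFn).symm fun i => ?_
    simp
  have h2 := RegImmKindLib.isRegular_of_seq .h1 (maximalIdeal R) (List.ofFn h) (fun r hr => by
    obtain ⟨i, rfl⟩ := List.mem_ofFn.1 hr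
    exact hm i) h1 R
  rw [Algebra.algebraMap_self, RingHom.coe_id, List.map_id] at h2
  exact h2.toIsWeaklyRegular

/-- Two generating families of the same ideal, one regular and the other minimal, have the same length. -/
theorem weaklyRegular_of_minimal {m a : ℕ} (h : Fin m → R) (f : Fin a → R) (hf : IsWeaklyRegular R (List.ofFn f))
    (hhf : Ideal.span (Set.range h) = Ideal.span (Set.range f)) (hm : ∀ i, h i ∈ maximalIdeal R)
    (hmin : ∀ r : Fin m → R, ∑ i, r i * h i = 0 → ∀ i, r i ∈ maximalIdeal R) :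
    IsWeaklyRegular R (List.ofFn h) := by
  classical
  have hfK : IsExactK f :=
    KRLib.isExactK_cast (KRLib.isExactK_of_isWeaklyRegular _ hf) List.length_ofFn fun i => by simp; rfl
  have hle : Ideal.span (Set.range f) ≤ maximalIdeal R := hhf ▸ Ideal.span_le.2 (by
    rintro _ ⟨i, rfl⟩
    exact hm i)
  have h1 : a ≤ m := KRLib.length_le_of_isExactK hfK hhf.symm
    (ne_top_of_le_ne_top (maximalIdeal.isMaximal R).ne_top hle)
  choose c hc using fun i => Ideal.mem_span_range_iff_exists_fun.1
    (hhf.ge (Ideal.subset_span ⟨i, rfl⟩) : f i ∈ _)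
  choose D hD using fun i => Ideal.mem_span_range_iff_exists_fun.1
    (hhf.le (Ideal.subset_span ⟨i, rfl⟩) : h i ∈ _)
  let σ := residue R
  let A : Matrix (Fin m) (Fin a) R := Matrix.of D
  let B : Matrix (Fin a) (Fin m) R := Matrix.of c
  have hAB : (A.map σ) * (B.map σ) = 1 := by
    rw [← Matrix.map_mul]
    ext i k
    have hrel : ∑ k, ((A * B) i k - (1 : Matrix (Fin m) (Fin m) R) i k) * h k = 0 := by
      simp only [sub_mul, Finset.sum_sub_distrib, Matrix.mul_apply, Finset.sum_mul, A, B, Matrix.of_apply]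
      rw [Finset.sum_comm, sub_eq_zero]
      conv_lhs => enter [2, j]; rw [show ∑ k, D i j * c j k * h k = D i j * f j by
        rw [← hc j, Finset.mul_sum]; simp [mul_assoc]]
      rw [hD i]
      simp [Matrix.one_apply]
    have := hmin _ hrel k
    rw [← residue_eq_zero_iff, map_sub, sub_eq_zero] at this
    refine this.trans ?_
    by_cases hik : i = k
    · subst hik; simp [Matrix.one_apply]
    · simp [Matrix.one_apply, hik]
  have h2 : m ≤ a := by
    refine le_of_fin_injective (ResidueField R) (Matrix.mulVecLin (B.map σ)) fun x y hxy => ?_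
    have h3 := congrArg (Matrix.mulVecLin (A.map σ)) hxy
    simp only [Matrix.mulVecLin_apply, Matrix.mulVec_mulVec] at h3
    rwa [hAB, Matrix.one_mulVec, Matrix.one_mulVec] at h3
  obtain rfl : m = a := le_antisymm h2 h1
  exact weaklyRegular_of_exactK h (KRLib.isExactK_of_length_eq hfK hhf.symm) hm

/-- The generators: `I = (G, F)`, `J = (G, g)`. -/
theorem exists_data {R' : Type u} [CommRing R'] [IsLocalRing R'] (π : R →+* R') (hπ : Function.Surjective π)
    (I : Ideal R) (hIm : I ≤ maximalIdeal R)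
    (hI : ∃ rs, IsRegular R rs ∧ I = Ideal.ofList rs)
    (hY : ∃ rs, IsRegular R' rs ∧ I.map π = Ideal.ofList rs)
    (hW : ∃ rs, IsRegular (R ⧸ I) rs ∧ (RingHom.ker π).map (Ideal.Quotient.mk I) = Ideal.ofList rs) :
    ∃ (d b e : ℕ) (G : Fin d → R) (F : Fin b → R) (g : Fin e → R),
      I = Ideal.span (Set.range (Fin.append G F)) ∧ RingHom.ker π = Ideal.span (Set.range (Fin.append G g)) ∧
      IsWeaklyRegular R (List.ofFn (Fin.append G F)) ∧ IsWeaklyRegular R' (List.ofFn fun i => π (F i)) ∧
      IsWeaklyRegular (R ⧸ I) (List.ofFn fun i => Ideal.Quotient.mk I (g i)) := by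
  classical
  haveI : IsLocalHom π := Function.Surjective.isLocalHom π hπ
  obtain ⟨a, ha, hIa⟩ := hI
  obtain ⟨r', hr', hY'⟩ := hY
  obtain ⟨s', hs', hW'⟩ := hW
  let J := RingHom.ker π
  have hJm : J ≤ maximalIdeal R := le_maximalIdeal (RingHom.ker_ne_top π)
  have hF : ∀ i : Fin r'.length, ∃ x ∈ I, π x = r'.get i := fun i =>
    (Ideal.mem_map_iff_of_surjective π hπ).1 (hY'.ge (Ideal.subset_span (List.get_mem r' i)))
  choose F hFI hFπ using hF
  have hg : ∀ i : Fin s'.length, ∃ x ∈ J, Ideal.Quotient.mk I x = s'.get i := fun i =>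
    (Ideal.mem_map_iff_of_surjective _ Ideal.Quotient.mk_surjective).1
      (hW'.ge (Ideal.subset_span (List.get_mem s' i)))
  choose g hgJ hgs using hg
  have hFl : (List.ofFn fun i => π (F i)) = r' := by simp only [hFπ]; exact List.ofFn_get r'
  have hgl : (List.ofFn fun i => Ideal.Quotient.mk I (g i)) = s' := by simp only [hgs]; exact List.ofFn_get s'
  have hFK : IsExactK fun i => π (F i) := by
    rw [show (fun i => π (F i)) = r'.get from funext hFπ]
    exact KRLib.isExactK_of_isWeaklyRegular _ hr'.toIsWeaklyRegular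
  have hπF : I.map π = Ideal.span (Set.range fun i => π (F i)) := by
    rw [hY', ← DefoRegLib.ofList_ofFn]
    exact congrArg Ideal.ofList hFl.symm
  -- generators of `I ⊓ J` completing `F`
  have hex : ∃ d, ∃ G : Fin d → R, (∀ j, G j ∈ I ⊓ J) ∧ I = Ideal.span (Set.range (Fin.append G F)) := by
    obtain ⟨d, G, hG⟩ := Submodule.fg_iff_exists_fin_generating_family.1 (IsNoetherian.noetherian (I ⊓ J))
    refine ⟨d, G, fun j => hG.le (Submodule.subset_span ⟨j, rfl⟩), le_antisymm (fun x hx => ?_) ?_⟩
    · have h1 : π x ∈ Ideal.span (Set.range fun i => π (F i)) := hπF ▸ Ideal.mem_map_of_mem π hx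
      obtain ⟨c, hc⟩ := Ideal.mem_span_range_iff_exists_fun.1 h1
      choose c₀ hc₀ using fun i => hπ (c i)
      have h2 : x - ∑ i, c₀ i * F i ∈ I ⊓ J := by
        refine ⟨sub_mem hx (Ideal.sum_mem _ fun i _ => Ideal.mul_mem_left _ _ (hFI i)), ?_⟩
        show π _ = 0
        simp [map_sum, hc₀, hc]
      rw [← sub_add_cancel x (∑ i, c₀ i * F i)]
      refine add_mem ?_ (Ideal.sum_mem _ fun i _ => Ideal.mul_mem_left _ _ (Ideal.subset_span ⟨Fin.natAdd d i, by simp⟩))
      refine Submodule.span_mono ?_ (hG.ge h2)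
      rintro _ ⟨j, rfl⟩
      exact ⟨Fin.castAdd _ j, by simp⟩
    · rw [Ideal.span_le]
      rintro _ ⟨i, rfl⟩
      induction i using Fin.addCases with
      | left j => rw [Fin.append_left]; exact (hG.le (Submodule.subset_span ⟨j, rfl⟩)).1
      | right i => rw [Fin.append_right]; exact hFI i
  obtain ⟨d, ⟨G, hGIJ, hGI⟩, hleast⟩ : ∃ d, (∃ G : Fin d → R, (∀ j, G j ∈ I ⊓ J) ∧
      I = Ideal.span (Set.range (Fin.append G F))) ∧ ∀ m < d, ¬ ∃ G : Fin m → R, (∀ j, G j ∈ I ⊓ J) ∧
      I = Ideal.span (Set.range (Fin.append G F)) :=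
    ⟨_, Nat.find_spec hex, fun m hm => Nat.find_min hex hm⟩
  have hπG : ∀ j, π (G j) = 0 := fun j => (hGIJ j).2
  have hmin : ∀ r : Fin (d + r'.length) → R, ∑ i, r i * Fin.append G F i = 0 → ∀ i, r i ∈ maximalIdeal R := by
    intro r hr i
    induction i using Fin.addCases with
    | right i =>
      have h1 : ∑ i, π (r (Fin.natAdd d i)) * π (F i) = 0 := by
        have := congrArg π hr
        simpa [Fin.sum_univ_add, map_sum, hπG] using this
      have h2 := KRLib.coeff_mem_of_relation hFK _ h1 i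
      rw [← hπF] at h2
      have h3 : I.map π ≤ maximalIdeal R' := by
        rw [Ideal.map_le_iff_le_comap]
        exact fun x hx => map_nonunit π x (hIm hx)
      have h4 := h3 h2
      rw [IsLocalRing.mem_maximalIdeal, mem_nonunits_iff] at h4 ⊢
      exact fun hu => h4 (hu.map π)
    | left j =>
      by_contra hu
      rw [IsLocalRing.mem_maximalIdeal, mem_nonunits_iff, not_not] at hu
      obtain ⟨d', hd'⟩ : ∃ d', d = d' + 1 := Nat.exists_eq_succ_of_ne_zero (by have := j.2; omega)
      subst hd'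
      refine absurd ?_ (hleast d' (Nat.lt_succ_self d'))
      refine ⟨G ∘ j.succAbove, fun k => hGIJ _, le_antisymm ?_ ?_⟩
      · rw [hGI, Ideal.span_le]
        have hsub : ∀ i, i ≠ Fin.castAdd r'.length j →
            Fin.append G F i ∈ Ideal.span (Set.range (Fin.append (G ∘ j.succAbove) F)) := by
          intro i hi
          induction i using Fin.addCases with
          | left k =>
            rw [Fin.append_left]
            rcases Fin.eq_self_or_eq_succAbove j k with rfl | ⟨k, rfl⟩
            · exact absurd rfl hi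
            · exact Ideal.subset_span ⟨Fin.castAdd _ k, by simp⟩
          | right k => rw [Fin.append_right]; exact Ideal.subset_span ⟨Fin.natAdd _ k, by simp⟩
        rintro _ ⟨i, rfl⟩
        by_cases hi : i = Fin.castAdd r'.length j
        · subst hi
          rw [← Finset.add_sum_erase _ _ (Finset.mem_univ (Fin.castAdd r'.length j)), add_eq_zero_iff_eq_neg] at hr
          have h1 : r (Fin.castAdd r'.length j) * Fin.append G F (Fin.castAdd r'.length j) ∈
              Ideal.span (Set.range (Fin.append (G ∘ j.succAbove) F)) := by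
            rw [hr]
            exact neg_mem (Ideal.sum_mem _ fun k hk => Ideal.mul_mem_left _ _ (hsub k (Finset.ne_of_mem_erase hk)))
          exact (Ideal.unit_mul_mem_iff_mem _ hu).1 h1
        · exact hsub i hi
      · rw [hGI]
        refine Ideal.span_mono ?_
        rintro _ ⟨i, rfl⟩
        induction i using Fin.addCases with
        | left k => exact ⟨Fin.castAdd _ (j.succAbove k), by simp⟩
        | right k => exact ⟨Fin.natAdd _ k, by simp⟩
  have hIreg : IsWeaklyRegular R (List.ofFn (Fin.append G F)) := by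
    refine weaklyRegular_of_minimal _ a.get (by rw [List.ofFn_get]; exact ha.toIsWeaklyRegular) ?_ (fun i => ?_) hmin
    · rw [← hGI, hIa, ← DefoRegLib.ofList_ofFn, List.ofFn_get]
    · exact hIm (hGI.ge (Ideal.subset_span ⟨i, rfl⟩))
  refine ⟨d, _, _, G, F, g, hGI, ?_, hIreg, hFl.symm ▸ hr'.toIsWeaklyRegular,
    hgl.symm ▸ hs'.toIsWeaklyRegular⟩
  -- `J = (G, g)`
  let K := Ideal.span (Set.range (Fin.append G g))
  have hKJ : K ≤ J := by
    rw [Ideal.span_le]
    rintro _ ⟨i, rfl⟩
    induction i using Fin.addCases with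
    | left j => rw [Fin.append_left]; exact (hGIJ j).2
    | right i => rw [Fin.append_right]; exact hgJ i
  refine le_antisymm ?_ hKJ
  refine Submodule.le_of_le_smul_of_le_jacobson_bot (I := maximalIdeal R) (IsNoetherian.noetherian J)
    (IsLocalRing.maximalIdeal_le_jacobson _) fun x hx => ?_
  have h1 : Ideal.Quotient.mk I x ∈ Ideal.span (Set.range fun i => Ideal.Quotient.mk I (g i)) := by
    rw [← DefoRegLib.ofList_ofFn, hgl, ← hW']
    exact Ideal.mem_map_of_mem _ hx
  obtain ⟨c, hc⟩ := Ideal.mem_span_range_iff_exists_fun.1 h1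
  choose c₀ hc₀ using fun i => Ideal.Quotient.mk_surjective (c i)
  have hgK : ∑ i, c₀ i * g i ∈ K := Ideal.sum_mem _ fun i _ =>
    Ideal.mul_mem_left _ _ (Ideal.subset_span ⟨Fin.natAdd d i, by simp⟩)
  have h2 : x - ∑ i, c₀ i * g i ∈ I := by
    rw [← Ideal.Quotient.eq_zero_iff_mem]
    simp [map_sum, hc₀, hc]
  replace h2 := hGI.le h2
  obtain ⟨r, hr⟩ := Ideal.mem_span_range_iff_exists_fun.1 h2
  rw [Fin.sum_univ_add] at hr
  simp only [Fin.append_left, Fin.append_right] at hr
  have hGK : ∑ j, r (Fin.castAdd r'.length j) * G j ∈ K := Ideal.sum_mem _ fun j _ =>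
    Ideal.mul_mem_left _ _ (Ideal.subset_span ⟨Fin.castAdd _ j, by simp⟩)
  have h3 : ∑ i, π (r (Fin.natAdd d i)) * π (F i) = 0 := by
    have := congrArg π hr
    have hgz : ∀ i, π (g i) = 0 := hgJ
    have hxz : π x = 0 := hx
    simpa [map_sum, hπG, hgz, hxz] using this
  obtain ⟨w, hw, hwπ⟩ := exists_lift_triv π hπ F _ (RegImmKindLib.isH1Regular_of_isExactK hFK _ h3)
  have h4 : ∑ i, r (Fin.natAdd d i) * F i ∈ maximalIdeal R • J := by
    have e : ∑ i, r (Fin.natAdd d i) * F i = ∑ i, F i * (r (Fin.natAdd d i) - w i) := by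
      have := RegImmKindLib.relation_of_mem_Triv F w hw
      rw [show ∑ i, F i * (r (Fin.natAdd d i) - w i) = ∑ i, (r (Fin.natAdd d i) * F i - w i * F i) from
        Finset.sum_congr rfl fun i _ => by ring, Finset.sum_sub_distrib, this, sub_zero]
    rw [e]
    refine Submodule.sum_mem _ fun i _ => Ideal.mul_mem_mul (hIm (hFI i)) ?_
    show π _ = 0
    rw [map_sub, hwπ, sub_self]
  rw [← sub_add_cancel x (∑ i, c₀ i * g i), ← hr, add_assoc]
  exact add_mem (Submodule.mem_sup_left hGK) (add_mem (Submodule.mem_sup_right h4) (Submodule.mem_sup_left hgK))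

end StrictRegLib
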