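import Groth.Agent.StrictRegLib.Alg
import Groth.Agent.StrictRegLib.Local
import Groth.Agent.BlowProjLib.Glue
import Groth.Agent.DefoRegLib.Strict
import Groth.Agent.DefoRegLib.Comp
import Groth.Agent.TransLib.RelField

/-!
# The strict transform at a point of a local base
-/

set_option autoImplicit false
set_option maxHeartbeats 1000000
set_option backward.isDefEq.respectTransparency false
set_option backward.isDefEq.respectTransparency.types false
set_option linter.style.haveILetI false

universe u

open AlgebraicGeometry CategoryTheory CategoryTheory.Limits RingTheory.Sequence IsLocalRing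

noncomputable section

namespace StrictRegLib

/-- The kernel is generated by a regular sequence. -/
def RK {A B : Type u} [CommRing A] [CommRing B] (φ : A →+* B) : Prop :=
  ∃ rs, IsRegular A rs ∧ RingHom.ker φ = Ideal.ofList rs

theorem RK.equiv {A A' B B' : Type u} [CommRing A] [CommRing A'] [CommRing B] [CommRing B'] (e : A ≃+* A')
    (e' : B ≃+* B') {φ : A →+* B} {φ' : A' →+* B'} (h : ∀ a, φ' (e a) = e' (φ a)) (hφ : RK φ) : RK φ' := by
  obtain ⟨rs, hrs, hk⟩ := hφ
  refine ⟨rs.map e, TransLib.isRegular_of_ringEquiv e hrs, ?_⟩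
  rw [show rs.map e = rs.map e.toRingHom from rfl, ← Ideal.map_ofList, ← hk]
  ext x
  obtain ⟨a, rfl⟩ := e.surjective x
  rw [RingHom.mem_ker, h, map_eq_zero_iff _ e'.injective]
  refine ⟨fun ha => Ideal.mem_map_of_mem e.toRingHom ha, fun ha => ?_⟩
  obtain ⟨b, hb, hba⟩ := (Ideal.mem_map_iff_of_surjective e.toRingHom e.surjective).1 ha
  exact e.injective hba ▸ hb

theorem RK.arrowIso {A A' B B' : CommRingCat.{u}} {f : A ⟶ B} {g : A' ⟶ B'} (i : Arrow.mk f ≅ Arrow.mk g)
    (h : RK g.hom) : RK f.hom :=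
  RK.equiv (Arrow.leftFunc.mapIso i).commRingCatIsoToRingEquiv.symm
    (Arrow.rightFunc.mapIso i).commRingCatIsoToRingEquiv.symm
    (fun a => congrArg (fun q => CommRingCat.Hom.hom q a) i.inv.w) h

theorem RK.stalk_square {P P' Q Q' : Scheme.{u}} (f : P' ⟶ P) (g : Q' ⟶ Q) (u : P ⟶ Q) (v : P' ⟶ Q')
    (h : f ≫ u = v ≫ g) (x : P') [IsIso (u.stalkMap (f x))] [IsIso (v.stalkMap x)]
    (hf : RK (f.stalkMap x).hom) : RK (g.stalkMap (v x)).hom := by
  obtain ⟨c, hc, he⟩ : ∃ (c : Q.presheaf.stalk (u (f x)) ⟶ Q.presheaf.stalk (g (v x))) (_ : IsIso c),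
      u.stalkMap (f x) ≫ f.stalkMap x = c ≫ g.stalkMap (v x) ≫ v.stalkMap x := by
    have e := Scheme.Hom.stalkMap_congr_hom _ _ h x
    rw [Scheme.Hom.stalkMap_comp, Scheme.Hom.stalkMap_comp] at e
    exact ⟨_, inferInstance, e⟩
  haveI := hc
  refine RK.equiv ((asIso (u.stalkMap (f x))).symm ≪≫ asIso c).commRingCatIsoToRingEquiv
    (asIso (v.stalkMap x)).symm.commRingCatIsoToRingEquiv (fun a => ?_) hf
  have e2 : inv (u.stalkMap (f x)) ≫ c ≫ g.stalkMap (v x) = f.stalkMap x ≫ inv (v.stalkMap x) := by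
    rw [IsIso.inv_comp_eq, ← Category.assoc (u.stalkMap (f x)), he]
    simp
  exact congrArg (fun q => CommRingCat.Hom.hom q a) e2

/-- The blowing up in the unit ideal does nothing. -/
theorem flat_chart_of_top {R : Type u} [CommRing R] {I : Ideal R} (hI : I = ⊤) (a : R) :
    (algebraMap R (BlowUp.affineAlgebra R I a)).Flat := by
  let L := Localization.Away a
  have h1 : IsLocalization.mk' L (1 : R) ⟨a, Submonoid.mem_powers a⟩ ∈ BlowUp.affineAlgebra R I a :=
    Algebra.subset_adjoin ⟨1, hI ▸ Submodule.mem_top, rfl⟩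
  have htop : BlowUp.affineAlgebra R I a = ⊤ := by
    refine eq_top_iff.2 fun z _ => ?_
    obtain ⟨n, x, hx⟩ := IsLocalization.Away.surj a z
    have hu : algebraMap R L a * IsLocalization.mk' L (1 : R) ⟨a, Submonoid.mem_powers a⟩ = 1 :=
      (IsLocalization.mk'_spec' L 1 ⟨a, Submonoid.mem_powers a⟩).trans (map_one _)
    have hz : z = algebraMap R L x * IsLocalization.mk' L (1 : R) ⟨a, Submonoid.mem_powers a⟩ ^ n := by
      rw [← hx, mul_assoc, ← mul_pow, hu, one_pow, mul_one]
    rw [hz]
    exact mul_mem (Subalgebra.algebraMap_mem _ x) (pow_mem h1 n)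
  haveI : Module.Flat R L := IsLocalization.flat L (Submonoid.powers a)
  let e : BlowUp.affineAlgebra R I a ≃ₐ[R] L := (Subalgebra.equivOfEq _ _ htop).trans Subalgebra.topEquiv
  exact RingHom.flat_algebraMap_iff.2 (Module.Flat.of_linearEquiv e.toLinearEquiv)

variable {R R' : Type u} [CommRing R] [IsLocalRing R] [IsNoetherianRing R] [CommRing R'] [IsLocalRing R']

theorem chart_point {d b e : ℕ} (G : Fin d → R) (F : Fin b → R) (g : Fin e → R)
    (π : R →+* R') (hπ : Function.Surjective π) (I : Ideal R)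
    (hI : I = Ideal.span (Set.range (Fin.append G F)))
    (hJ : RingHom.ker π = Ideal.span (Set.range (Fin.append G g)))
    (h1 : IsWeaklyRegular R (List.ofFn (Fin.append G F)))
    (h2 : IsWeaklyRegular R' (List.ofFn fun i => π (F i)))
    (h3 : IsWeaklyRegular (R ⧸ I) (List.ofFn fun i => Ideal.Quotient.mk I (g i)))
    (hcase : I ≤ maximalIdeal R ∨ (d = 0 ∧ I = ⊤ ∧ IsWeaklyRegular R (List.ofFn g)))
    {P P' : Scheme.{u}} (p : P ⟶ Spec (CommRingCat.of R)) (hp : BlowUp.IsBlowUp p (BlowUpLib.specIdeal (A := R) I))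
    (p' : P' ⟶ Spec (CommRingCat.of R'))
    (hp' : BlowUp.IsBlowUp p' (BlowUpLib.specIdeal (A := R') (I.map π)))
    (j : P' ⟶ P) (hj : j ≫ p = p' ≫ Spec.map (CommRingCat.ofHom π))
    (x : P') (hx : p' x = closedPoint R') : RK (j.stalkMap x).hom := by
  classical
  haveI : IsLocalHom π := Function.Surjective.isLocalHom π hπ
  subst hI
  let A : Fin (d + b) → R := Fin.append G F
  have hI' : (Ideal.span (Set.range A)).map π = Ideal.span (Set.range fun m => π (A m)) := by
    rw [Ideal.map_span, ← Set.range_comp]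
    rfl
  obtain ⟨ch, hch, -, -⟩ := BlowProjLib.exists_charts A hp
  obtain ⟨ch', hch', hcov', -⟩ := BlowProjLib.exists_charts (fun m => π (A m)) (hI' ▸ hp')
  obtain ⟨l, q', hq'⟩ := hcov' x
  subst hq'
  haveI := (hch l).1
  haveI := (hch' l).1
  let I := Ideal.span (Set.range A)
  let I' := Ideal.span (Set.range fun m => π (A m))
  let C := BlowUp.affineAlgebra R I (A l)
  let C' := BlowUp.affineAlgebra R' I' (π (A l))
  have hlI : A l ∈ I := Ideal.subset_span ⟨l, rfl⟩
  have hlI' : π (A l) ∈ I' := Ideal.subset_span ⟨l, rfl⟩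
  have hC := BlowUpLib.isChart_affineAlgebra hlI
  have hC' := BlowUpLib.isChart_affineAlgebra hlI'
  obtain ⟨ψ, hψ, -⟩ := hC.lift C' ((algebraMap R' C').comp π)
    (BlowProjLib.nzd_affineAlgebra I' (π (A l))) (by rw [← Ideal.map_map, hI']; exact hC'.span)
  have hψ' : ∀ r, ψ (algebraMap R C r) = algebraMap R' C' (π r) := RingHom.congr_fun hψ
  have hcomm : (Spec.map (CommRingCat.ofHom ψ) ≫ ch l) ≫ p = (ch' l ≫ j) ≫ p := by
    rw [Category.assoc (Spec.map (CommRingCat.ofHom ψ)) (ch l), (hch l).2, Category.assoc (ch' l), hj,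
      ← Category.assoc (ch' l), (hch' l).2, ← Spec.map_comp, ← Spec.map_comp, ← CommRingCat.ofHom_comp,
      ← CommRingCat.ofHom_comp, hψ]
  have hcart : BlowUp.IsEffCartierIdeal ((BlowUpLib.specIdeal (A := R) I).comap
      ((Spec.map (CommRingCat.ofHom ψ) ≫ ch l) ≫ p)) := by
    rw [Category.assoc, (hch l).2, ← Spec.map_comp, ← CommRingCat.ofHom_comp, hψ, BlowUpLib.comap_specIdeal,
      ← Ideal.map_map, hI', hC'.span]
    exact BlowUpLib.isEffCartier_specIdeal hC'.nzd
  have hfac : Spec.map (CommRingCat.ofHom ψ) ≫ ch l = ch' l ≫ j := by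
    obtain ⟨w, -, hu⟩ := hp.2 _ _ hcart
    exact (hu _ rfl).trans (hu _ hcomm.symm).symm
  haveI : ∀ y, IsIso ((ch l).stalkMap y) := fun y => inferInstance
  haveI : IsIso ((ch' l).stalkMap q') := inferInstance
  refine RK.stalk_square (Spec.map (CommRingCat.ofHom ψ)) j (ch l) (ch' l) hfac q' ?_
  refine RK.arrowIso (Scheme.arrowStalkMapSpecIso (CommRingCat.ofHom ψ) q') ?_
  let q : Ideal C := (PrimeSpectrum.comap ψ q').asIdeal
  let L := Localization.AtPrime q
  haveI : Module.Flat C L := IsLocalization.flat L q.primeCompl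
  -- the generator of the chart is not in `J`
  have hl0 : ∀ i, l ≠ Fin.castAdd b i := by
    rintro i rfl
    have e : π (A (Fin.castAdd b i)) = 0 := by
      show π (Fin.append G F _) = 0
      rw [Fin.append_left]
      exact RingHom.mem_ker.1 (hJ.ge (Ideal.subset_span ⟨Fin.castAdd e i, Fin.append_left _ _ _⟩))
    have h0 : (0 : C') ∈ nonZeroDivisors C' := by
      have h1 : algebraMap R' C' (π (A (Fin.castAdd b i))) = 0 := by
        rw [show algebraMap R' C' (π (A (Fin.castAdd b i))) = algebraMap R' C' 0 from congrArg (algebraMap R' C') e,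
          map_zero]
      exact h1 ▸ hC'.nzd
    haveI : Nontrivial C' := PrimeSpectrum.nontrivial (q' : PrimeSpectrum C')
    exact zero_ne_one (α := C') ((mem_nonZeroDivisors_iff_right.mp h0 1 (mul_zero _)).symm)
  revert hl0
  induction l using Fin.addCases with
  | left i => exact fun h => absurd rfl (h i)
  | right k =>
  intro _
  obtain ⟨n, rfl⟩ : ∃ n, b = n + 1 := Nat.exists_eq_succ_of_ne_zero (by have := k.2; omega)
  let H : Fin n → R := F ∘ k.succAbove
  have hAl : A (Fin.natAdd d k) = F k := Fin.append_right _ _ _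
  have hgood : DefoRegLib.Good (A (Fin.natAdd d k)) G H :=
    ⟨List.ofFn F, by rwa [List.ofFn_fin_append] at h1, by rw [hAl]; exact DefoRegLib.perm_pivot F k⟩
  have hgood' : DefoRegLib.Good (π (A (Fin.natAdd d k))) (Fin.elim0 : Fin 0 → R') (π ∘ H) :=
    ⟨List.ofFn (π ∘ F), by simpa using h2, by rw [hAl]; exact DefoRegLib.perm_pivot (π ∘ F) k⟩
  have hIeq : I = Ideal.span (Set.range (Fin.cons (A (Fin.natAdd d k)) (Fin.append G H) : Fin (d + n + 1) → R)) := by
    refine le_antisymm (Ideal.span_le.2 ?_) (Ideal.span_le.2 ?_)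
    · rintro _ ⟨m, rfl⟩
      induction m using Fin.addCases with
      | left i => exact Ideal.subset_span ⟨(Fin.castAdd n i).succ, by simp [A]⟩
      | right i =>
        rcases Fin.eq_self_or_eq_succAbove k i with rfl | ⟨m, rfl⟩
        · exact Ideal.subset_span ⟨0, Fin.cons_zero _ _⟩
        · exact Ideal.subset_span ⟨(Fin.natAdd d m).succ, by simp [A, H]⟩
    · rintro _ ⟨m, rfl⟩
      induction m using Fin.cases with
      | zero => rw [Fin.cons_zero]; exact hlI
      | succ m =>
        rw [Fin.cons_succ]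
        induction m using Fin.addCases with
        | left i => rw [Fin.append_left]; exact Ideal.subset_span ⟨Fin.castAdd _ i, by simp [A]⟩
        | right i => rw [Fin.append_right]; exact Ideal.subset_span ⟨Fin.natAdd d (k.succAbove i), by simp [A, H]⟩
  have hI'eq : I' = Ideal.span (Set.range (Fin.cons (π (A (Fin.natAdd d k)))
      (Fin.append (Fin.elim0 : Fin 0 → R') (π ∘ H)) : Fin (0 + n + 1) → R')) := by
    have hG0 : ∀ i, π (G i) = 0 := fun i =>
      RingHom.mem_ker.1 (hJ.ge (Ideal.subset_span ⟨Fin.castAdd e i, Fin.append_left _ _ _⟩))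
    refine le_antisymm (Ideal.span_le.2 ?_) (Ideal.span_le.2 ?_)
    · rintro _ ⟨m, rfl⟩
      induction m using Fin.addCases with
      | left i => simp [A, hG0]
      | right i =>
        rcases Fin.eq_self_or_eq_succAbove k i with rfl | ⟨m, rfl⟩
        · exact Ideal.subset_span ⟨0, Fin.cons_zero _ _⟩
        · exact Ideal.subset_span ⟨(Fin.natAdd 0 m).succ, by rw [Fin.cons_succ, Fin.append_right]; simp [A, H]⟩
    · rintro _ ⟨m, rfl⟩
      induction m using Fin.cases with
      | zero => rw [Fin.cons_zero]; exact hlI'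
      | succ m =>
        rw [Fin.cons_succ]
        induction m using Fin.addCases with
        | left i => exact i.elim0
        | right i => rw [Fin.append_right]; exact Ideal.subset_span ⟨Fin.natAdd d (k.succAbove i), by simp [A, H]⟩
  let v : Fin (d + n) → C := fun m => ⟨IsLocalization.mk' (Localization.Away (A (Fin.natAdd d k))) (Fin.append G H m)
    ⟨A (Fin.natAdd d k), Submonoid.mem_powers _⟩, Algebra.subset_adjoin ⟨Fin.append G H m,
      hIeq.ge (Ideal.subset_span ⟨m.succ, Fin.cons_succ _ _ _⟩), rfl⟩⟩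
  have hv : ∀ m, v m * algebraMap R C (A (Fin.natAdd d k)) = algebraMap R C (Fin.append G H m) := fun m =>
    Subtype.ext (IsLocalization.mk'_spec _ _ ⟨A (Fin.natAdd d k), Submonoid.mem_powers _⟩)
  obtain ⟨hψs, hψk⟩ := chart_ker hgood g I hIeq v hv π hπ hJ hgood' I' hI'eq ψ hψ'
  haveI : IsNoetherianRing C := isNoetherianRing_of_surjective (MvPolynomial (Fin (d + n)) R) C
    (MvPolynomial.aeval (R := R) v).toRingHom (DefoRegLib.presentation₂ hgood I hIeq v hv).1
  haveI : IsNoetherianRing L := IsLocalization.isNoetherianRing q.primeCompl L inferInstance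
  let rs : List C := (List.ofFn fun i => algebraMap R C (g i)) ++ List.ofFn fun i => v (Fin.castAdd n i)
  have hq : ∀ r ∈ rs, r ∈ q := fun r hr => by
    show ψ r ∈ q'.asIdeal
    rw [RingHom.mem_ker.1 (hψk.ge (Ideal.subset_span hr : r ∈ Ideal.ofList rs))]
    exact zero_mem _
  have hm : ∀ r ∈ rs.map (algebraMap C L), r ∈ maximalIdeal L := fun r hr => by
    obtain ⟨a, ha, rfl⟩ := List.mem_map.1 hr
    exact (IsLocalization.AtPrime.to_map_mem_maximal_iff L q a inferInstance).2 (hq a ha)
  refine ⟨rs.map (algebraMap C L), IsRegular.of_isWeaklyRegular_of_mem_maximalIdeal _ hm ?_, ?_⟩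
  · rcases hcase with hle | ⟨hd, htop, hgR⟩
    · have hclosed : (PrimeSpectrum.comap (algebraMap R' C') q').asIdeal = maximalIdeal R' := by
        have e : (ch' (Fin.natAdd d k) ≫ p') q' = closedPoint R' := hx
        rw [(hch' (Fin.natAdd d k)).2] at e
        exact congrArg PrimeSpectrum.asIdeal e
      have htq : algebraMap R C (A (Fin.natAdd d k)) ∈ q := by
        show ψ _ ∈ q'.asIdeal
        rw [hψ']
        show π (A (Fin.natAdd d k)) ∈ (PrimeSpectrum.comap (algebraMap R' C') q').asIdeal
        rw [hclosed]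
        exact map_nonunit π _ (hle hlI)
      have h4 := IsWeaklyRegular.of_flat (S := L) (chart_seq hgood g I hIeq v hv h3)
      rw [List.map_cons] at h4
      have h5 : IsWeaklyRegular L
          (rs.map (algebraMap C L) ++ [algebraMap C L (algebraMap R C (A (Fin.natAdd d k)))]) :=
        IsLocalRing.isWeaklyRegular_of_perm_of_subset_maximalIdeal h4 (List.perm_append_singleton _ _).symm
          (fun r hr => by
            rcases List.mem_cons.1 hr with rfl | hr
            · exact (IsLocalization.AtPrime.to_map_mem_maximal_iff L q _ inferInstance).2 htq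
            · exact hm r hr)
      exact ((isWeaklyRegular_append_iff _ _ _).1 h5).1
    · subst hd
      have hflat : Module.Flat R L := by
        have h1R : (algebraMap R C).Flat := flat_chart_of_top htop (A (Fin.natAdd 0 k))
        haveI : Module.Flat R C := RingHom.flat_algebraMap_iff.1 h1R
        exact Module.Flat.trans R C L
      haveI := hflat
      have h4 := IsWeaklyRegular.of_flat (S := L) hgR
      simp only [rs, List.ofFn_zero, List.append_nil, List.map_ofFn]
      rw [List.map_ofFn] at h4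
      exact h4
  · show RingHom.ker (Localization.localRingHom q q'.asIdeal ψ rfl) = _
    refine Eq.trans ?_ (Ideal.map_ofList (algebraMap C L) rs)
    rw [← hψk]
    refine IsLocalization.ker_map (Localization.AtPrime q'.asIdeal) ψ ?_
    ext a
    constructor
    · rintro ⟨a, ha, rfl⟩
      exact ha
    · intro ha
      obtain ⟨a, rfl⟩ := hψs a
      exact ⟨a, ha, rfl⟩

end StrictRegLib
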